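import Cfsg.Agent.KInf.Seq

/-!
The dichotomy behind Glauberman's K-infinity theorems: either some class-two subgroup of `S` acting
in a controlled way on a critical pair `A ≤ D` of a normal `p`-subgroup `T` lies outside `T`, or both
K-infinity subgroups of `S` are those of `T`.
-/

set_option autoImplicit false

open scoped commutatorElement

namespace Cfsg.Agent.KInf

variable {G : Type*} [Group G]

/-- A pair `A ≤ D ≤ T` of normal subgroups with `A` central in `D`, `⁅D, T⁆ ≤ A` and
`C_T(D) ≤ A`. -/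
structure Frame (T A D : Subgroup G) : Prop where
  normal_A : A.Normal
  normal_D : D.Normal
  le : A ≤ D
  le_T : D ≤ T
  central : ⁅D, A⁆ = ⊥
  comm : ⁅D, T⁆ ≤ A
  cent : T ⊓ Subgroup.centralizer (D : Set G) ≤ A

/-- Repeated commutators with a finite `p`-group containing a subgroup shrink it. -/
theorem commutator_ne_self [Finite G] {p : ℕ} [Fact p.Prime] {T N : Subgroup G} (hT : IsPGroup p T)
    (hN : N ≤ T) (hne : N ≠ ⊥) : ⁅N, T⁆ ≠ N := by
  intro he
  have : Group.IsNilpotent ↥T := hT.isNilpotent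
  obtain ⟨n, hn⟩ := Subgroup.nilpotent_iff_lowerCentralSeries.1 this
  have h : ∀ k, N ≤ ((Subgroup.lowerCentralSeries (⊤ : Subgroup ↥T) k)).map T.subtype := by
    intro k
    induction k with
    | zero =>
      rw [Subgroup.lowerCentralSeries_zero, ← MonoidHom.range_eq_map, Subgroup.range_subtype]
      exact hN
    | succ k ih =>
      rw [← he, Subgroup.lowerCentralSeries_succ, Subgroup.map_commutator,
        ← MonoidHom.range_eq_map, Subgroup.range_subtype]
      exact Subgroup.commutator_mono ih le_rfl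
  refine hne (eq_bot_iff.2 ((h n).trans ?_))
  rw [hn, Subgroup.map_bot]

theorem exists_frame [Finite G] {p : ℕ} [Fact p.Prime] {T : Subgroup G} [hTn : T.Normal]
    (hT : IsPGroup p T) : ∃ A D, Frame T A D := by
  classical
  obtain ⟨A, ⟨hAn, hAT, hAA⟩, hmax⟩ := Set.Finite.exists_maximalFor
    (fun A : Subgroup G => Nat.card A) {A : Subgroup G | A.Normal ∧ A ≤ T ∧ ⁅A, A⁆ = ⊥}
    (Set.toFinite _) ⟨⊥, inferInstance, bot_le, Subgroup.commutator_bot_left _⟩
  let π := QuotientGroup.mk' A
  let D := T ⊓ Subgroup.centralizer (A : Set G) ⊓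
    (Subgroup.centralizer ((T.map π : Subgroup (G ⧸ A)) : Set (G ⧸ A))).comap π
  have : (T.map π).Normal := hTn.map π (QuotientGroup.mk'_surjective A)
  have hDn : D.Normal := inferInstance
  have hAD : A ≤ D := by
    refine le_inf (le_inf hAT (Subgroup.commutator_eq_bot_iff_le_centralizer.1 hAA)) fun a ha => ?_
    rw [Subgroup.mem_comap, show π a = 1 from (QuotientGroup.eq_one_iff a).2 ha]
    exact one_mem _
  have hcomm : ⁅D, T⁆ ≤ A := by
    rw [← QuotientGroup.ker_mk' A, ← Subgroup.map_eq_bot_iff, Subgroup.map_commutator,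
      Subgroup.commutator_eq_bot_iff_le_centralizer]
    exact Subgroup.map_le_iff_le_comap.2 inf_le_right
  have hcent : ⁅D, A⁆ = ⊥ :=
    Subgroup.commutator_eq_bot_iff_le_centralizer.2 (inf_le_left.trans inf_le_right)
  refine ⟨A, D, hAn, hDn, hAD, inf_le_left.trans inf_le_left, hcent, hcomm, ?_⟩
  set K := T ⊓ Subgroup.centralizer (D : Set G)
  have hAK : A ≤ K := le_inf hAT (Subgroup.commutator_eq_bot_iff_le_centralizer.1
    (by rw [Subgroup.commutator_comm, hcent]))
  have hKn : K.Normal := inferInstance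
  have hKD : K ⊓ D ≤ A := by
    have h1 : (K ⊓ D).Normal ∧ K ⊓ D ≤ T ∧ ⁅K ⊓ D, K ⊓ D⁆ = ⊥ :=
      ⟨inferInstance, inf_le_left.trans inf_le_left,
        Subgroup.commutator_eq_bot_iff_le_centralizer.2 ((inf_le_left.trans inf_le_right).trans
          (Subgroup.centralizer_le inf_le_right))⟩
    have h2 : A ≤ K ⊓ D := le_inf hAK hAD
    exact (Subgroup.eq_of_le_of_card_ge h2 (hmax h1 (Subgroup.card_le_of_le h2))).ge
  by_contra hKA
  obtain ⟨N, ⟨hNn, hNK, hNA⟩, hmin⟩ := Set.Finite.exists_minimalFor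
    (fun A : Subgroup G => Nat.card A) {N : Subgroup G | N.Normal ∧ N ≤ K ∧ ¬ N ≤ A}
    (Set.toFinite _) ⟨K, hKn, le_rfl, hKA⟩
  have hle : ⁅N, T⁆ ≤ N := Subgroup.commutator_le_left N T
  by_cases h : ⁅N, T⁆ ≤ A
  · refine hNA ((le_inf hNK (le_inf (le_inf (hNK.trans inf_le_left) ((hNK.trans inf_le_right).trans
      (Subgroup.centralizer_le hAD))) ?_)).trans hKD)
    rw [← Subgroup.map_le_iff_le_comap, ← Subgroup.commutator_eq_bot_iff_le_centralizer,
      ← Subgroup.map_commutator, Subgroup.map_eq_bot_iff, QuotientGroup.ker_mk']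
    exact h
  · have he : ⁅N, T⁆ = N := Subgroup.eq_of_le_of_card_ge hle
      (hmin ⟨inferInstance, hle.trans hNK, h⟩ (Subgroup.card_le_of_le hle))
    exact commutator_ne_self hT (hNK.trans inf_le_left) (fun hb => hNA (hb ▸ bot_le)) he

/-- The subgroups used to produce quadratic action. -/
def Good (A D B : Subgroup G) : Prop :=
  ClassTwo B ∧ D ≤ Subgroup.normalizer (B : Set G) ∧ ⁅A, B⁆ ≤ zen B ∧
    ∀ E : Subgroup G, E ≤ D → B ≤ Subgroup.normalizer (E : Set G) → ⁅B, ⁅E, E⁆⁆ = ⊥ →
      ⁅⁅zen B, E⁆, E⁆ = ⊥ → ⁅⁅E, B⁆, B⁆ ≤ A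

namespace Frame

variable {T A D : Subgroup G} (F : Frame T A D)
include F

theorem abelian : ⁅A, A⁆ = ⊥ :=
  eq_bot_iff.2 ((Subgroup.commutator_mono F.le le_rfl).trans F.central.le)

theorem classTwo {E : Subgroup G} (h : E ≤ D) : ClassTwo E := by
  rw [classTwo_iff, eq_bot_iff]
  calc ⁅⁅E, E⁆, E⁆ ≤ ⁅⁅D, T⁆, D⁆ :=
        Subgroup.commutator_mono (Subgroup.commutator_mono h (h.trans F.le_T)) h
    _ ≤ ⁅A, D⁆ := Subgroup.commutator_mono F.comm le_rfl
    _ = ⊥ := by rw [Subgroup.commutator_comm, F.central]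

theorem le_normalizer (B : Subgroup G) : B ≤ Subgroup.normalizer (A : Set G) := by
  have := F.normal_A
  rw [Subgroup.normalizer_eq_top A]; exact le_top

theorem le_zen : A ≤ zen D :=
  le_inf F.le (Subgroup.commutator_eq_bot_iff_le_centralizer.1
    (by rw [Subgroup.commutator_comm, F.central]))

theorem good_of_lowMem {Q B : Subgroup G} (hB : LowMem Q B) (hDQ : D ≤ Q) : Good A D B := by
  have := F.normal_A
  have hA : ⁅⁅zen B, A⁆, A⁆ = ⊥ :=
    eq_bot_iff.2 ((Subgroup.commutator_mono (Subgroup.commutator_le_right _ _) le_rfl).trans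
      F.abelian.le)
  refine ⟨hB.1, hDQ.trans hB.2.1, ?_, fun E hE hn h1 h2 => ?_⟩
  · rw [Subgroup.commutator_comm]
    exact hB.2.2 A (F.classTwo F.le) (F.le.trans hDQ) (F.le_normalizer B)
      (by rw [F.abelian, Subgroup.commutator_bot_right]) hA
  · have h := hB.2.2 E (F.classTwo hE) (hE.trans hDQ) hn h1 h2
    rw [Subgroup.commutator_comm] at h
    exact ((Subgroup.commutator_mono h le_rfl).trans (commutator_zen B).le).trans bot_le

theorem good_of_upMem {Q B : Subgroup G} (hB : UpMem Q B) (hDQ : D ≤ Q) : Good A D B := by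
  have h : ⁅D, B⁆ ≤ zen B := by
    rw [Subgroup.commutator_comm]; exact (Subgroup.commutator_mono le_rfl hDQ).trans hB.2
  refine ⟨hB.1, ?_, (Subgroup.commutator_mono F.le le_rfl).trans h, fun E hE _ _ _ => ?_⟩
  · rw [Subgroup.le_normalizer_iff_commutator_le_left, Subgroup.commutator_comm]
    exact h.trans inf_le_left
  · exact ((Subgroup.commutator_mono ((Subgroup.commutator_mono hE le_rfl).trans h) le_rfl).trans
      (commutator_zen B).le).trans bot_le

theorem good_of_low_failure {C : Subgroup G} (hC : ClassTwo C)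
    (hn : D ≤ Subgroup.normalizer (C : Set G)) (h1 : ⁅D, ⁅C, C⁆⁆ = ⊥)
    (h2 : ⁅⁅zen D, C⁆, C⁆ = ⊥) : Good A D C := by
  have := F.normal_D
  have hDC : ⁅D, C⁆ ≤ C := by
    rw [Subgroup.commutator_comm]
    exact Subgroup.le_normalizer_iff_commutator_le_left.1 hn
  refine ⟨hC, hn, le_inf ((Subgroup.commutator_mono F.le le_rfl).trans hDC) ?_, fun E hE _ _ _ => ?_⟩
  · rw [← Subgroup.commutator_eq_bot_iff_le_centralizer, eq_bot_iff]
    exact (Subgroup.commutator_mono (Subgroup.commutator_mono F.le_zen le_rfl) le_rfl).trans h2.le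
  · refine le_trans (le_inf (le_trans ?_ F.le_T) ?_) F.cent
    · exact (Subgroup.commutator_mono ((Subgroup.commutator_mono hE le_rfl).trans
        (Subgroup.commutator_le_left D C)) le_rfl).trans (Subgroup.commutator_le_left D C)
    · refine (Subgroup.commutator_mono ((Subgroup.commutator_mono hE le_rfl).trans hDC) le_rfl).trans ?_
      rw [← Subgroup.commutator_eq_bot_iff_le_centralizer, Subgroup.commutator_comm, h1]

/-- If no good subgroup of `S` leaves `T`, the K-infinity subgroups of `S` are those of `T`. -/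
theorem kInf_eq {S : Subgroup G} (hTS : T ≤ S) (h : ∀ B ≤ S, Good A D B → B ≤ T) :
    kLow S = kLow T ∧ kUp S = kUp T := by
  have step : ∀ n, D ≤ odd S n → evn S n ≤ T ∧ odd S (n + 1) ≤ T ∧ D ≤ odd S (n + 1) := by
    intro n hn
    have hlow : evn S n ≤ T :=
      sSup_le fun B hB => h B hB.1 (F.good_of_lowMem hB.2 hn)
    have hDlow : D ≤ evn S n := by
      refine le_low (F.le_T.trans hTS) ⟨F.classTwo le_rfl, ?_, fun C hC hCQ hnC h1 h2 => ?_⟩
      · have := F.normal_D
        rw [Subgroup.normalizer_eq_top D]; exact le_top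
      · have hCT : C ≤ T := h C (hCQ.trans (odd_le S n)) (F.good_of_low_failure hC hnC h1 h2)
        exact ((Subgroup.commutator_mono le_rfl hCT).trans F.comm).trans F.le_zen
    refine ⟨hlow, sSup_le fun B hB => h B hB.1 (F.good_of_upMem hB.2 hDlow), ?_⟩
    exact le_up (F.le_T.trans hTS) ⟨F.classTwo le_rfl,
      ((Subgroup.commutator_mono le_rfl hlow).trans F.comm).trans F.le_zen⟩
  have hD : ∀ n, D ≤ odd S n := by
    intro n
    induction n with
    | zero => exact F.le_T.trans hTS
    | succ n ih => exact (step n ih).2.2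
  exact kInf_eq_of_le hTS (fun n => (step n (hD n)).1) (fun n => (step n (hD n)).2.1)

/-- If a K-infinity subgroup of `S` is not normal, some good subgroup of `S` leaves `T`. -/
theorem exists_good [T.Normal] {S : Subgroup G} (hTS : T ≤ S)
    (h : ¬ (kLow S).Normal ∨ ¬ (kUp S).Normal) : ∃ B ≤ S, Good A D B ∧ ¬ B ≤ T := by
  by_contra hc
  push Not at hc
  obtain ⟨h1, h2⟩ := F.kInf_eq hTS hc
  rw [h1, h2] at h
  exact h.elim (fun h => h (kLow_normal T)) (fun h => h (kUp_normal T))

end Frame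

end Cfsg.Agent.KInf
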