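import Cfsg.Prelude.Def_ConjugacyFunctors
import Mathlib.GroupTheory.Nilpotent

/-!
The K-infinity sequences read inside an ambient group: `low P Q` and `up P Q` are the subgroups
generated by the two star families of `P` relative to `Q`, for subgroups `P, Q` of `G`.
-/

set_option autoImplicit false

open scoped commutatorElement

namespace Cfsg.Agent.KInf

universe u

variable {G : Type*} [Group G]

/-- The centre of a subgroup, inside the ambient group. -/
abbrev zen (B : Subgroup G) : Subgroup G := B ⊓ Subgroup.centralizer (B : Set G)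

theorem commutator_zen (B : Subgroup G) : ⁅zen B, B⁆ = ⊥ :=
  Subgroup.commutator_eq_bot_iff_le_centralizer.2 inf_le_right

/-- Nilpotency class at most two. -/
def ClassTwo (B : Subgroup G) : Prop := ⁅B, B⁆ ≤ Subgroup.centralizer (B : Set G)

theorem classTwo_iff {B : Subgroup G} : ClassTwo B ↔ ⁅⁅B, B⁆, B⁆ = ⊥ :=
  Subgroup.commutator_eq_bot_iff_le_centralizer.symm

/-- The lower star condition. -/
def LowMem (Q B : Subgroup G) : Prop :=
  ClassTwo B ∧ Q ≤ Subgroup.normalizer (B : Set G) ∧
    ∀ A : Subgroup G, ClassTwo A → A ≤ Q → B ≤ Subgroup.normalizer (A : Set G) → ⁅B, ⁅A, A⁆⁆ = ⊥ →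
      ⁅⁅zen B, A⁆, A⁆ = ⊥ → ⁅B, A⁆ ≤ zen B

/-- The upper star condition. -/
def UpMem (Q B : Subgroup G) : Prop := ClassTwo B ∧ ⁅B, Q⁆ ≤ zen B

/-- The subgroup generated by the lower star family of `P` relative to `Q`. -/
def low (P Q : Subgroup G) : Subgroup G := sSup {B | B ≤ P ∧ LowMem Q B}

/-- The subgroup generated by the upper star family of `P` relative to `Q`. -/
def up (P Q : Subgroup G) : Subgroup G := sSup {B | B ≤ P ∧ UpMem Q B}

theorem low_le (P Q : Subgroup G) : low P Q ≤ P := sSup_le fun _ h => h.1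

theorem up_le (P Q : Subgroup G) : up P Q ≤ P := sSup_le fun _ h => h.1

theorem le_low {P Q B : Subgroup G} (h : B ≤ P) (hB : LowMem Q B) : B ≤ low P Q :=
  le_sSup (s := {B | B ≤ P ∧ LowMem Q B}) ⟨h, hB⟩

theorem le_up {P Q B : Subgroup G} (h : B ≤ P) (hB : UpMem Q B) : B ≤ up P Q :=
  le_sSup (s := {B | B ≤ P ∧ UpMem Q B}) ⟨h, hB⟩

theorem LowMem.anti {Q Q' B : Subgroup G} (hB : LowMem Q' B) (h : Q ≤ Q') : LowMem Q B :=
  ⟨hB.1, h.trans hB.2.1, fun A hA hAQ => hB.2.2 A hA (hAQ.trans h)⟩

theorem UpMem.anti {Q Q' B : Subgroup G} (hB : UpMem Q' B) (h : Q ≤ Q') : UpMem Q B :=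
  ⟨hB.1, (Subgroup.commutator_mono le_rfl h).trans hB.2⟩

theorem low_mono {P P' Q Q' : Subgroup G} (hP : P ≤ P') (hQ : Q' ≤ Q) : low P Q ≤ low P' Q' :=
  sSup_le fun _ h => le_low (h.1.trans hP) (h.2.anti hQ)

theorem up_mono {P P' Q Q' : Subgroup G} (hP : P ≤ P') (hQ : Q' ≤ Q) : up P Q ≤ up P' Q' :=
  sSup_le fun _ h => le_up (h.1.trans hP) (h.2.anti hQ)

theorem low_eq_of_le {S P Q : Subgroup G} (hPS : P ≤ S) (h : low S Q ≤ P) : low S Q = low P Q :=
  le_antisymm (sSup_le fun _ hB => le_low ((le_low hB.1 hB.2).trans h) hB.2) (low_mono hPS le_rfl)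

theorem up_eq_of_le {S P Q : Subgroup G} (hPS : P ≤ S) (h : up S Q ≤ P) : up S Q = up P Q :=
  le_antisymm (sSup_le fun _ hB => le_up ((le_up hB.1 hB.2).trans h) hB.2) (up_mono hPS le_rfl)

/-- The odd terms of the K-sequence, renumbered as in the definitions. -/
def odd (P : Subgroup G) : ℕ → Subgroup G
  | 0 => P
  | n + 1 => up P (low P (odd P n))

/-- The even terms of the K-sequence. -/
def evn (P : Subgroup G) (n : ℕ) : Subgroup G := low P (odd P n)

/-- The lower K-infinity subgroup. -/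
def kLow (P : Subgroup G) : Subgroup G := ⨆ n, evn P n

/-- The upper K-infinity subgroup. -/
def kUp (P : Subgroup G) : Subgroup G := ⨅ n, odd P n

theorem odd_le (P : Subgroup G) : ∀ n, odd P n ≤ P
  | 0 => le_rfl
  | _ + 1 => up_le _ _

theorem odd_succ_le (P : Subgroup G) : ∀ n, odd P (n + 1) ≤ odd P n
  | 0 => up_le _ _
  | n + 1 => up_mono le_rfl (low_mono le_rfl (odd_succ_le P n))

/-! ### Behaviour under injective homomorphisms -/

section Map

variable {H : Type*} [Group H] {f : G →* H} (hf : Function.Injective f)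
include hf

theorem map_zen (B : Subgroup G) : (zen B).map f = zen (B.map f) := by
  ext x
  constructor
  · rintro ⟨b, ⟨hb, hc⟩, rfl⟩
    refine ⟨⟨b, hb, rfl⟩, ?_⟩
    rintro _ ⟨c, hc', rfl⟩
    rw [← map_mul, ← map_mul, hc c hc']
  · rintro ⟨⟨b, hb, rfl⟩, hc⟩
    refine ⟨b, ⟨hb, fun c hc' => hf ?_⟩, rfl⟩
    rw [map_mul, map_mul]
    exact hc (f c) ⟨c, hc', rfl⟩

theorem map_le_normalizer {A B : Subgroup G} :
    A.map f ≤ Subgroup.normalizer (B.map f : Set H) ↔ A ≤ Subgroup.normalizer (B : Set G) := by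
  rw [Subgroup.le_normalizer_iff_commutator_le_left, Subgroup.le_normalizer_iff_commutator_le_left,
    ← Subgroup.map_commutator, Subgroup.map_le_map_iff_of_injective hf]

theorem map_classTwo {B : Subgroup G} : ClassTwo (B.map f) ↔ ClassTwo B := by
  rw [classTwo_iff, classTwo_iff, ← Subgroup.map_commutator, ← Subgroup.map_commutator,
    Subgroup.map_eq_bot_iff_of_injective _ hf]

theorem map_upMem {Q B : Subgroup G} : UpMem (Q.map f) (B.map f) ↔ UpMem Q B := by
  rw [UpMem, UpMem, map_classTwo hf, ← map_zen hf, ← Subgroup.map_commutator,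
    Subgroup.map_le_map_iff_of_injective hf]

theorem map_lowMem {Q B : Subgroup G} : LowMem (Q.map f) (B.map f) ↔ LowMem Q B := by
  rw [LowMem, LowMem, map_classTwo hf, map_le_normalizer hf]
  refine and_congr_right fun _ => and_congr_right fun _ => ⟨fun h A hA hAQ hn h1 h2 => ?_,
    fun h A hA hAQ hn h1 h2 => ?_⟩
  · have := h (A.map f) ((map_classTwo hf).2 hA) (Subgroup.map_mono hAQ) ((map_le_normalizer hf).2 hn)
      (by rw [← Subgroup.map_commutator, ← Subgroup.map_commutator, h1, Subgroup.map_bot])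
      (by rw [← map_zen hf, ← Subgroup.map_commutator, ← Subgroup.map_commutator, h2,
        Subgroup.map_bot])
    rwa [← map_zen hf, ← Subgroup.map_commutator, Subgroup.map_le_map_iff_of_injective hf] at this
  · obtain ⟨A, rfl⟩ : ∃ A' : Subgroup G, A'.map f = A :=
      ⟨A.comap f, Subgroup.map_comap_eq_self (hAQ.trans (Subgroup.map_le_range f Q))⟩
    rw [Subgroup.map_le_map_iff_of_injective hf] at hAQ
    rw [map_classTwo hf] at hA
    rw [map_le_normalizer hf] at hn
    rw [← Subgroup.map_commutator, ← Subgroup.map_commutator,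
      Subgroup.map_eq_bot_iff_of_injective _ hf] at h1
    rw [← map_zen hf, ← Subgroup.map_commutator, ← Subgroup.map_commutator,
      Subgroup.map_eq_bot_iff_of_injective _ hf] at h2
    rw [← map_zen hf, ← Subgroup.map_commutator, Subgroup.map_le_map_iff_of_injective hf]
    exact h A hA hAQ hn h1 h2

theorem map_low (P Q : Subgroup G) : low (P.map f) (Q.map f) = (low P Q).map f := by
  apply le_antisymm
  · refine sSup_le fun B ⟨hB, hm⟩ => ?_
    obtain ⟨B, rfl⟩ : ∃ B' : Subgroup G, B'.map f = B :=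
      ⟨B.comap f, Subgroup.map_comap_eq_self (hB.trans (Subgroup.map_le_range f P))⟩
    exact Subgroup.map_mono
      (le_low ((Subgroup.map_le_map_iff_of_injective hf).1 hB) ((map_lowMem hf).1 hm))
  · rw [Subgroup.map_le_iff_le_comap]
    exact sSup_le fun B hB => Subgroup.map_le_iff_le_comap.1
      (le_low (Subgroup.map_mono hB.1) ((map_lowMem hf).2 hB.2))

theorem map_up (P Q : Subgroup G) : up (P.map f) (Q.map f) = (up P Q).map f := by
  apply le_antisymm
  · refine sSup_le fun B ⟨hB, hm⟩ => ?_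
    obtain ⟨B, rfl⟩ : ∃ B' : Subgroup G, B'.map f = B :=
      ⟨B.comap f, Subgroup.map_comap_eq_self (hB.trans (Subgroup.map_le_range f P))⟩
    exact Subgroup.map_mono
      (le_up ((Subgroup.map_le_map_iff_of_injective hf).1 hB) ((map_upMem hf).1 hm))
  · rw [Subgroup.map_le_iff_le_comap]
    exact sSup_le fun B hB => Subgroup.map_le_iff_le_comap.1
      (le_up (Subgroup.map_mono hB.1) ((map_upMem hf).2 hB.2))

theorem map_odd (P : Subgroup G) : ∀ n, odd (P.map f) n = (odd P n).map f
  | 0 => rfl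
  | n + 1 => by rw [odd, odd, map_odd P n, map_low hf, map_up hf]

theorem map_evn (P : Subgroup G) (n : ℕ) : evn (P.map f) n = (evn P n).map f := by
  rw [evn, evn, map_odd hf, map_low hf]

theorem map_kLow (P : Subgroup G) : kLow (P.map f) = (kLow P).map f := by
  simp_rw [kLow, Subgroup.map_iSup, map_evn hf]

theorem map_kUp (P : Subgroup G) : kUp (P.map f) = (kUp P).map f := by
  simp_rw [kUp, Subgroup.map_iInf f hf, map_odd hf]

end Map

/-! ### The subgroups of the definitions -/

theorem kSeqOdd_eq (P : Type*) [Group P] : ∀ n, kSeqOdd P n = odd (⊤ : Subgroup P) n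
  | 0 => rfl
  | n + 1 => by
    rw [odd, kSeqOdd, kSeqOdd_eq P n]
    have h1 : ∀ Q : Subgroup P, sSup (kLowerStarFamily Q) = low ⊤ Q := fun Q => by
      unfold low
      congr 1
      ext B
      exact ⟨fun h => ⟨le_top, h⟩, fun h => h.2⟩
    have h2 : ∀ Q : Subgroup P, sSup (kUpperStarFamily Q) = up ⊤ Q := fun Q => by
      unfold up
      congr 1
      ext B
      exact ⟨fun h => ⟨le_top, h⟩, fun h => h.2⟩
    rw [h1, h2]

theorem kSeqEven_eq (P : Type*) [Group P] (n : ℕ) : kSeqEven P n = evn (⊤ : Subgroup P) n := by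
  rw [kSeqEven, kSeqOdd_eq, evn]
  unfold low
  congr 1
  ext B
  exact ⟨fun h => ⟨le_top, h⟩, fun h => h.2⟩

theorem kInfLower_eq (P : Type u) [Group P] : kInfLower P = kLow (⊤ : Subgroup P) := by
  simp_rw [kInfLower, kLow, kSeqEven_eq]

theorem kInfUpper_eq (P : Type u) [Group P] : kInfUpper P = kUp (⊤ : Subgroup P) := by
  simp_rw [kInfUpper, kUp, kSeqOdd_eq]

theorem inducedFunctor_kInfLower {G : Type u} [Group G] (P : Subgroup G) :
    inducedFunctor kInfLower P = kLow P := by
  rw [inducedFunctor, kInfLower_eq, ← map_kLow P.subtype_injective, ← MonoidHom.range_eq_map,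
    Subgroup.range_subtype]

theorem inducedFunctor_kInfUpper {G : Type u} [Group G] (P : Subgroup G) :
    inducedFunctor kInfUpper P = kUp P := by
  rw [inducedFunctor, kInfUpper_eq, ← map_kUp P.subtype_injective, ← MonoidHom.range_eq_map,
    Subgroup.range_subtype]

/-! ### Basic properties -/

theorem classTwo_zen (P : Subgroup G) : ClassTwo (zen P) := by
  rw [classTwo_iff, eq_bot_iff]
  calc ⁅⁅zen P, zen P⁆, zen P⁆ ≤ ⁅⁅zen P, P⁆, P⁆ :=
        Subgroup.commutator_mono (Subgroup.commutator_mono le_rfl inf_le_left) inf_le_left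
    _ = ⊥ := by rw [commutator_zen, Subgroup.commutator_bot_left]

theorem zen_le_kLow (P : Subgroup G) : zen P ≤ kLow P := by
  refine le_trans ?_ (le_iSup (evn P) 0)
  refine le_low inf_le_left ⟨classTwo_zen P, ?_, fun A _ hA _ _ _ => ?_⟩
  · rw [Subgroup.le_normalizer_iff_commutator_le_left]
    exact (commutator_zen P).trans_le bot_le
  · exact ((Subgroup.commutator_mono le_rfl hA).trans_eq (commutator_zen P)).trans bot_le

theorem zen_le_kUp (P : Subgroup G) : zen P ≤ kUp P :=
  le_iInf fun n => by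
    cases n with
    | zero => exact inf_le_left
    | succ n =>
      exact le_up inf_le_left ⟨classTwo_zen P,
        ((Subgroup.commutator_mono le_rfl (low_le _ _)).trans_eq (commutator_zen P)).trans bot_le⟩

theorem kLow_le (P : Subgroup G) : kLow P ≤ P := iSup_le fun _ => low_le _ _

theorem kUp_le (P : Subgroup G) : kUp P ≤ P := (iInf_le _ 0).trans (odd_le P 0)

theorem kLow_normal (P : Subgroup G) [hP : P.Normal] : (kLow P).Normal := by
  refine ⟨fun x hx g => ?_⟩
  have h : kLow (P.map (MulAut.conj g).toMonoidHom) = (kLow P).map (MulAut.conj g).toMonoidHom :=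
    map_kLow (MulAut.conj g).injective P
  have hm : P.map (MulAut.conj g).toMonoidHom = P :=
    Subgroup.mem_normalizer_iff_map_conj_eq.1 (show g ∈ Subgroup.normalizer (P : Set G) by
      rw [Subgroup.normalizer_eq_top P]; trivial)
  rw [hm] at h
  rw [h]
  exact ⟨x, hx, rfl⟩

theorem kUp_normal (P : Subgroup G) [hP : P.Normal] : (kUp P).Normal := by
  refine ⟨fun x hx g => ?_⟩
  have h : kUp (P.map (MulAut.conj g).toMonoidHom) = (kUp P).map (MulAut.conj g).toMonoidHom :=
    map_kUp (MulAut.conj g).injective P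
  have hm : P.map (MulAut.conj g).toMonoidHom = P :=
    Subgroup.mem_normalizer_iff_map_conj_eq.1 (show g ∈ Subgroup.normalizer (P : Set G) by
      rw [Subgroup.normalizer_eq_top P]; trivial)
  rw [hm] at h
  rw [h]
  exact ⟨x, hx, rfl⟩

/-- If all later terms of the K-sequence of `S` lie in `P ≤ S`, the K-infinity subgroups agree. -/
theorem kInf_eq_of_le {S P : Subgroup G} (hPS : P ≤ S) (he : ∀ n, evn S n ≤ P)
    (ho : ∀ n, odd S (n + 1) ≤ P) : kLow S = kLow P ∧ kUp S = kUp P := by
  have hev : ∀ n, evn S n = low P (odd S n) := fun n => low_eq_of_le hPS (he n)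
  have hod : ∀ n, odd S (n + 1) = up P (evn S n) := fun n => up_eq_of_le hPS (ho n)
  have h1 : ∀ n, odd P n ≤ odd S n := by
    intro n
    induction n with
    | zero => exact hPS
    | succ n ih =>
      rw [hod, hev]
      exact up_mono le_rfl (low_mono le_rfl ih)
  have h2 : ∀ n, odd S (n + 1) ≤ odd P n := by
    intro n
    induction n with
    | zero => exact ho 0
    | succ n ih =>
      rw [hod, hev]
      exact up_mono le_rfl (low_mono le_rfl ih)
  refine ⟨le_antisymm (iSup_le fun n => ?_) (iSup_le fun n => ?_),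
    le_antisymm (le_iInf fun n => ?_) (le_iInf fun n => ?_)⟩
  · rw [hev]
    exact le_trans (low_mono le_rfl (h1 n)) (le_iSup (evn P) n)
  · refine le_trans ?_ (le_iSup (evn S) (n + 1))
    rw [hev]
    exact low_mono le_rfl (h2 n)
  · exact (iInf_le _ (n + 1)).trans (h2 n)
  · exact (iInf_le _ n).trans (h1 n)

/-- The two K-infinity subgroups are isomorphism-invariant `p`-group functors. -/
theorem isCharPFunctor_kInfLower (p : ℕ) [Fact p.Prime] :
    IsCharPFunctor.{u} p kInfLower.{u} := by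
  refine ⟨fun Q _ _ hQ _ h => ?_, fun Q R _ _ _ _ φ => ?_⟩
  · have := hQ.center_nontrivial
    refine (Subgroup.nontrivial_iff_ne_bot (Subgroup.center Q)).1 inferInstance (eq_bot_iff.2 ?_)
    rw [← h]
    refine le_trans (fun x hx => ?_) ((zen_le_kLow ⊤).trans_eq (kInfLower_eq Q).symm)
    exact ⟨trivial, fun y _ => Subgroup.mem_center_iff.1 hx y⟩
  · rw [kInfLower_eq, kInfLower_eq, ← map_kLow φ.injective,
      Subgroup.map_top_of_surjective _ φ.surjective]

theorem isCharPFunctor_kInfUpper (p : ℕ) [Fact p.Prime] :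
    IsCharPFunctor.{u} p kInfUpper.{u} := by
  refine ⟨fun Q _ _ hQ _ h => ?_, fun Q R _ _ _ _ φ => ?_⟩
  · have := hQ.center_nontrivial
    refine (Subgroup.nontrivial_iff_ne_bot (Subgroup.center Q)).1 inferInstance (eq_bot_iff.2 ?_)
    rw [← h]
    refine le_trans (fun x hx => ?_) ((zen_le_kUp ⊤).trans_eq (kInfUpper_eq Q).symm)
    exact ⟨trivial, fun y _ => Subgroup.mem_center_iff.1 hx y⟩
  · rw [kInfUpper_eq, kInfUpper_eq, ← map_kUp φ.injective,
      Subgroup.map_top_of_surjective _ φ.surjective]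

end Cfsg.Agent.KInf
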